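import Groth.Agent.ShriekPn7.Main
import Groth.Agent.PerfGen7.TensorModCx
import Groth.Agent.TensorPC.Basic

/-!
# Twisting by an invertible module on the derived category
-/

set_option autoImplicit false
set_option linter.style.haveILetI false
set_option backward.isDefEq.respectTransparency false
set_option backward.isDefEq.respectTransparency.types false

universe u

open CategoryTheory CategoryTheory.Limits AlgebraicGeometry Pretriangulated

attribute [local instance] HasDerivedCategory.standard

noncomputable section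

namespace Groth.Agent.ProjTwists7

open Groth.Agent.KFlatLib Groth.Agent.AmpleVan

variable {X : Scheme.{u}}

/-- Twisting on the derived category. -/
def twD {P : X.Modules} (hP : PicF.IsInvertible P) : DCoh.D X ⥤ DCoh.D X :=
  haveI := isEquivalence_tw hP
  (tw P).mapDerivedCategory

variable {P : X.Modules} (hP : PicF.IsInvertible P)

instance : (twD hP).CommShift ℤ :=
  haveI := isEquivalence_tw hP
  inferInstanceAs ((tw P).mapDerivedCategory.CommShift ℤ)

instance : (twD hP).IsTriangulated :=
  haveI := isEquivalence_tw hP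
  inferInstanceAs (tw P).mapDerivedCategory.IsTriangulated

theorem nonempty_comp_iso {F G : X.Modules ⥤ X.Modules} [F.Additive] [G.Additive] [PreservesFiniteLimits F]
    [PreservesFiniteColimits F] [PreservesFiniteLimits G] [PreservesFiniteColimits G] (e : F ⋙ G ≅ 𝟭 _) :
    Nonempty (F.mapDerivedCategory ⋙ G.mapDerivedCategory ≅ 𝟭 (DCoh.D X)) :=
  RHomO7.nonempty_iso_of_Q ((Functor.associator _ _ _).symm ≪≫
      Functor.isoWhiskerRight F.mapDerivedCategoryFactors G.mapDerivedCategory ≪≫
      Functor.associator _ _ _ ≪≫ Functor.isoWhiskerLeft _ G.mapDerivedCategoryFactors ≪≫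
      (Functor.associator _ _ _).symm ≪≫ Functor.isoWhiskerRight
        ((Functor.mapHomologicalComplexCompIso (Iso.refl _) (ComplexShape.up ℤ)) ≪≫
          NatIso.mapHomologicalComplex e (ComplexShape.up ℤ) ≪≫
          Functor.mapHomologicalComplexIdIso X.Modules (ComplexShape.up ℤ)) DerivedCategory.Q ≪≫
      Functor.leftUnitor _ ≪≫ (Functor.rightUnitor _).symm)

theorem isEquivalence_twD : (twD hP).IsEquivalence := by
  haveI := isEquivalence_tw hP
  let T := tw P
  haveI : T.Additive := inferInstance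
  haveI : T.asEquivalence.functor.Additive := ‹T.Additive›
  let T' := T.inv
  haveI : T'.Additive := inferInstanceAs T.asEquivalence.inverse.Additive
  obtain ⟨e₁⟩ := nonempty_comp_iso (F := T) (G := T') T.asEquivalence.unitIso.symm
  obtain ⟨e₂⟩ := nonempty_comp_iso (F := T') (G := T) T.asEquivalence.counitIso
  exact (CategoryTheory.Equivalence.mk (twD hP) T'.mapDerivedCategory e₁.symm e₂).isEquivalence_functor

/-- The twist of a module in one degree. -/
theorem nonempty_twD_shift_inD (M : X.Modules) (k : ℤ) :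
    Nonempty ((twD hP).obj ((DCoh.inD X M)⟦k⟧) ≅ (DCoh.inD X ((tw P).obj M))⟦k⟧) :=
  haveI := isEquivalence_tw hP
  ⟨((twD hP).commShiftIso k).app _ ≪≫ (shiftFunctor (DCoh.D X) k).mapIso
    (((tw P).mapDerivedCategorySingleFunctor 0).app M)⟩

theorem isFlat_of_invertible (hP : PicF.IsInvertible P) : FlatMod.IsFlat P :=
  KFlatLib.isFlat_of_isFinLocFree (H23.PullPush.isFinLocFree_of_isInvertible hP)

/-- Objectwise, twisting is `- ⊗^L P`. -/
theorem nonempty_twD_iso [DCoh.HasLTensorMod P] (K : DCoh.D X) :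
    Nonempty ((DCoh.LTensorMod P).obj K ≅ (twD hP).obj K) := by
  haveI := isEquivalence_tw hP
  let R := (kRes X).obj (DerivedCategory.Q.objPreimage K)
  have hR : DCoh.IsKFlat R := isKFlat_kRes _
  let e : DCoh.toD X R ≅ K := (resQIso X).app _ ≪≫ DerivedCategory.Q.objObjPreimageIso K
  haveI := isIso_ltensorModComparison P hR
  let i : DCoh.tensorRightMod P ≅ tw P := NatIso.ofComponents (fun M => Iso.refl _) (fun {M M'} f => by
    simp only [Iso.refl_hom, Category.comp_id, Category.id_comp]
    rfl)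
  exact ⟨(DCoh.LTensorMod P).mapIso e.symm ≪≫ asIso ((ltensorModComparison P).app R) ≪≫
    DerivedCategory.Q.mapIso ((NatIso.mapHomologicalComplex i (ComplexShape.up ℤ)).app R) ≪≫
    ((tw P).mapDerivedCategoryFactors.app R).symm ≪≫ (twD hP).mapIso e⟩

/-- A finite locally free module in degree zero is perfect. -/
theorem isPerfect_inD {M : X.Modules} (hM : FlatMod.IsFinLocFree M) : DCoh.IsPerfect (DCoh.inD X M) := by
  have hS : DCoh.IsStrictlyPerfect (PerfGen7.degZero M) :=
    ⟨⟨0, 0, fun n hn => HomologicalComplex.isZero_single_obj_X _ _ _ _ (by omega)⟩, fun n => by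
      by_cases hn : n = 0
      · subst hn
        exact H23.PullPush.isFinLocFree_of_iso (HomologicalComplex.singleObjXSelf (ComplexShape.up ℤ) 0 _).symm hM
      · exact isFinLocFree_of_isZero (HomologicalComplex.isZero_single_obj_X _ _ _ _ hn)⟩
  exact (KFlatLib.isPerfect_iff _).2 fun x =>
    ⟨X, 𝟙 X, inferInstance, ⟨x, rfl⟩, _, isStrictlyPerfect_restrict (𝟙 X) hS,
      ⟨((rhoQ (𝟙 X)).app _).symm ≪≫ (rho (𝟙 X)).mapIso ((DerivedCategory.singleFunctorIsoCompQ _ 0).app M).symm⟩⟩

/-- Twisting preserves pseudo-coherence. -/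
theorem locPC_twD {K : DCoh.D X} (hK : ∀ m, LocPC m K) (m : ℤ) : LocPC m ((twD hP).obj K) := by
  haveI := hasLTensorMod P
  haveI := hasLTensorCx (PerfGen7.degZero P)
  obtain ⟨a⟩ := nonempty_twD_iso hP K
  obtain ⟨b⟩ := PerfGen7.nonempty_LTensorMod_iso P K
  let K₀ := repK K
  have hK₀ : DCoh.IsKFlat K₀ := isKFlat_repK _
  have hfl : FlatMod.IsFinLocFree P := (H23.PullPush.isFinLocFree_of_isInvertible hP)
  have hPflat : DCoh.IsKFlat (PerfGen7.degZero P) :=
    isKFlat_of_isStrictlyLE _ 0 (isFlat_single 0 (isFlat_of_invertible hP))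
  have hPpc : ∀ n, LocPC n (DCoh.toD X (PerfGen7.degZero P)) := fun n =>
    (((KFlatLib.isPerfect_iff _).1 (isPerfect_inD hfl)).locPC n).of_iso
      ((DerivedCategory.singleFunctorIsoCompQ _ 0).app P)
  haveI : (DCoh.toD X (PerfGen7.degZero P)).IsLE 0 :=
    inferInstanceAs ((DerivedCategory.Q.obj _).IsLE 0)
  exact (TensorPC.locPC_tensorCx hK₀ hPflat (fun n => (hK n).of_iso (repKIso K).symm) hPpc 0 m).of_iso
    ((ltensorCxIso (PerfGen7.degZero P) hK₀).symm ≪≫ (DCoh.LTensorCx _).mapIso (repKIso K) ≪≫ b.symm ≪≫ a)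

end Groth.Agent.ProjTwists7

end
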