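import Groth.Agent.ProjGen7.Windows

/-!
# Vanishing of maps from twists in a range of degrees
-/

set_option autoImplicit false
set_option linter.style.haveILetI false
set_option backward.isDefEq.respectTransparency false
set_option backward.isDefEq.respectTransparency.types false

universe u

open CategoryTheory CategoryTheory.Limits AlgebraicGeometry Pretriangulated TopologicalSpace

attribute [local instance] HasDerivedCategory.standard

noncomputable section

namespace Groth.Agent.ProjTwists7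

open Groth.Agent.KFlatLib Groth.Agent.PerfGen7 Groth.Agent.ProjGen7

variable {X : Scheme.{u}}

/-- Maps from the shifts `A⟦m⟧`, `m < b`, to `K` vanish. -/
def OB (b : ℤ) (K A : DCoh.D X) : Prop := ∀ m < b, ∀ φ : A⟦m⟧ ⟶ K, φ = 0

variable {K : DCoh.D X}

theorem OB.mono {A : DCoh.D X} {b b' : ℤ} (h : OB b K A) (hb : b' ≤ b) : OB b' K A :=
  fun m hm => h m (by omega)

theorem OB.of_iso {A B : DCoh.D X} {b : ℤ} (e : A ≅ B) (h : OB b K A) : OB b K B := fun m hm φ => by
  rw [← cancel_epi ((shiftFunctor (DCoh.D X) m).map e.hom), comp_zero]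
  exact h m hm _

theorem OB.shift {A : DCoh.D X} {b : ℤ} (h : OB b K A) (k : ℤ) : OB (b - k) K (A⟦k⟧) := fun m hm φ => by
  rw [← cancel_epi ((shiftFunctorAdd (DCoh.D X) k m).app A).hom, comp_zero]
  exact h (k + m) (by omega) _

theorem OB.obj₂ {T : Triangle (DCoh.D X)} (hT : T ∈ distTriang _) {b : ℤ}
    (h₁ : OB b K T.obj₁) (h₃ : OB b K T.obj₃) : OB b K T.obj₂ := fun m hm φ => by
  obtain ⟨ψ, hψ⟩ := Triangle.yoneda_exact₂ _ (Triangle.shift_distinguished T hT m) φ (h₁ m hm _)
  rw [hψ, h₃ m hm ψ]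
  exact comp_zero

theorem OB.obj₁ {T : Triangle (DCoh.D X)} (hT : T ∈ distTriang _) {b : ℤ}
    (h₂ : OB b K T.obj₂) (h₃ : OB (b - 1) K T.obj₃) : OB b K T.obj₁ :=
  OB.obj₂ (inv_rot_of_distTriang _ hT) ((h₃.shift (-1)).mono (by omega)) h₂

theorem OB.obj₃ {T : Triangle (DCoh.D X)} (hT : T ∈ distTriang _) {b : ℤ}
    (h₁ : OB (b + 1) K T.obj₁) (h₂ : OB b K T.obj₂) : OB b K T.obj₃ :=
  OB.obj₂ (rot_of_distTriang _ hT) h₂ ((h₁.shift 1).mono (by omega))

variable {κ : Type}

theorem ob_cones (F : KD X κ) (c : ℤ) : ∀ (l : List κ) (a : ℤ),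
    (∀ b, a ≤ b → b ≤ a + (l.length : ℤ) → OB c K (DerivedCategory.Q.obj (F.obj b))) →
      OB (c - l.length) K (DerivedCategory.Q.obj ((F.cones l).obj a))
  | [], a, h => (h a le_rfl (by simp)).mono (by simp)
  | t :: l, a, h => OB.obj₃ ((F.cones l).tri_distinguished t a)
      ((ob_cones F c l a fun b hb hb' => h b hb (by simp; omega)).mono (by simp <;> omega))
      ((ob_cones F c l (a + 1) fun b hb hb' => h b (by omega) (by simp; omega)).mono (by simp; omega))

theorem ob_of_cones (F : KD X κ) (c : ℤ) : ∀ (l : List κ) (a : ℤ),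
    (∀ b, a + 1 ≤ b → b ≤ a + (l.length : ℤ) → OB c K (DerivedCategory.Q.obj (F.obj b))) →
      OB (c - l.length) K (DerivedCategory.Q.obj ((F.cones l).obj a)) →
        OB c K (DerivedCategory.Q.obj (F.obj a))
  | [], _, _, hl => OB.mono (A := DerivedCategory.Q.obj (F.obj _)) hl (by simp)
  | t :: l, a, h, hl => ob_of_cones F c l a (fun b hb hb' => h b hb (by simp; omega))
      (OB.obj₁ ((F.cones l).tri_distinguished t a)
        (ob_cones F c l (a + 1) fun b hb hb' => h b hb (by simp; omega)) (hl.mono (by simp; omega)))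

variable (n : ℕ) (R : Type u) [CommRing R]

theorem ob_window {K : DCoh.D (CohB1.ProjSpace n R)} (c a : ℤ)
    (h : ∀ b : ℤ, a + 1 ≤ b → b ≤ a + n + 1 →
      OB c K (DCoh.inD _ (Twist.twistProjSpace n R b))) :
    OB c K (DCoh.inD _ (Twist.twistProjSpace n R a)) := by
  classical
  let 𝒜 := CohB1.polyGrading n R
  let V := fun i : Fin (n + 1) => Proj.basicOpen 𝒜 (coord' n R (ULift.up i))
  let m := fun (i : Fin (n + 1)) (b : ℤ) =>
    PnDual.mulHom (coord'_mem n R (ULift.up i)) (d := b) (d' := b + 1) rfl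
  let F : KD (CohB1.ProjSpace n R) (Fin (n + 1)) := kdOfModules (fun b => Twist.twist 𝒜 b) m
    fun i j b => mulHom_comm (coord'_mem n R (ULift.up i)) (coord'_mem n R (ULift.up j)) b
  let ll := (Finset.univ : Finset (Fin (n + 1))).toList
  have hll : ll.length = n + 1 := by simp [ll]
  let e : ∀ b : ℤ, DCoh.inD (CohB1.ProjSpace n R) (Twist.twistProjSpace n R b) ≅ DerivedCategory.Q.obj (F.obj b) := fun b =>
    (DerivedCategory.singleFunctorIsoCompQ _ 0).app _
  have hz : IsZero (DerivedCategory.Q.obj ((F.cones ll).obj a)) := by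
    refine isZero_of_supp_empty (supp_iff.2 fun y _ p => ?_)
    have hy : y ∈ ⨆ j, PnCoh.Finite.D 𝒜 (coord' n R j) := iSup_coord' n R ▸ Opens.mem_top y
    obtain ⟨j, hj⟩ := Opens.mem_iSup.1 hy
    let i := j.down
    have hi : ∀ b, IsIso ((rho (V i).ι).map (DerivedCategory.Q.map (F.op i b))) := fun b => by
      haveI : IsIso ((Scheme.Modules.restrictFunctor (V i).ι).map (m i b)) :=
        isIso_restrict_mulHom (coord'_mem n R (ULift.up i)) b
      haveI : IsIso ((rCx (V i).ι).map
          ((HomologicalComplex.single _ (ComplexShape.up ℤ) 0).map (m i b))) :=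
        (NatIso.isIso_map_iff (HomologicalComplex.singleMapHomologicalComplex
          (Scheme.Modules.restrictFunctor (V i).ι) (ComplexShape.up ℤ) 0) (m i b)).2
          (Functor.map_isIso (HomologicalComplex.single _ _ 0) _)
      exact (NatIso.isIso_map_iff (rhoQ (V i).ι)
        ((HomologicalComplex.single _ (ComplexShape.up ℤ) 0).map (m i b))).2
          (Functor.map_isIso DerivedCategory.Q _)
    exact supp_iff.1 ((isZero_rho_iff (V i).ι _).1
      (isZero_cones (V i).ι F i hi _ (Finset.mem_toList.2 (Finset.mem_univ i)) _)) y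
      (fun hc => hc ⟨⟨y, hj⟩, rfl⟩) p
  refine OB.of_iso (e a).symm (ob_of_cones F c ll a (fun b hb hb' => (h b hb (by omega)).of_iso (e b)) ?_)
  intro k _ φ
  exact ((shiftFunctor _ k).map_isZero hz).eq_of_src _ _

/-- No maps from the window in degrees above `-b` forces the cohomology sheaves to vanish there. -/
theorem isZero_hd_of_window {K : DCoh.D (CohB1.ProjSpace n R)} (hK : DCoh.IsQCohD K) (c : ℤ)
    (h : ∀ d : ℕ, d ≤ n → OB c K (DCoh.inD _ (Twist.twistProjSpace n R (-(d : ℤ))))) (p : ℤ) (hp : -c < p) :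
    IsZero (DCoh.HD K p) := by
  have hall : ∀ k : ℕ, OB c K (DCoh.inD _ (Twist.twistProjSpace n R (-(k : ℤ)))) := fun k => by
    induction k using Nat.strong_induction_on with
    | _ k ih =>
      by_cases hk : k ≤ n
      · exact h k hk
      · refine ob_window n R c (-(k : ℤ)) fun b hb hb' => ?_
        obtain ⟨l, rfl⟩ : ∃ l : ℕ, b = -(l : ℤ) := ⟨(-b).toNat, by omega⟩
        exact ih l (by omega)
  haveI := compactSpace_proj n R
  haveI : QuasiSeparatedSpace ↥(Proj (CohB1.polyGrading n R)) := inferInstance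
  have hfam := testFam_twist (𝒜 := CohB1.polyGrading n R) (coord'_mem n R) (iSup_coord' n R)
  let e : DCoh.HD (K⟦p⟧) 0 ≅ DCoh.HD K p :=
    ((DerivedCategory.homologyFunctor _ 0).shiftIso p 0 p (add_zero p)).app K
  have hz' : ∀ (i : ℕ) (φ : DCoh.inD _ (Twist.twist (CohB1.polyGrading n R) (-(i : ℤ))) ⟶ K⟦p⟧), φ = 0 :=
    fun i φ => by
      refine (shiftFunctor (DCoh.D (CohB1.ProjSpace n R)) (-p)).map_injective ?_
      rw [Functor.map_zero, ← cancel_mono ((shiftShiftNeg K p)).hom, zero_comp]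
      exact hall i (-p) (by omega) _
  refine QCoh.isZero_of_cover (hK p) _ hfam.aff (fun x => Opens.mem_iSup.1
      (hfam.cover ▸ Opens.mem_top x)) fun j => ⟨fun a b => ?_⟩
  have hs : ∀ z : secObj _ ⟶ DCoh.HD K p, z = 0 := fun z => by
    rw [← cancel_mono e.inv, zero_comp]
    exact secObj_hom_eq_zero hfam (isQCohD_shift hK p) hz' j _
  have key : ∀ W : (CohB1.ProjSpace n R).Opens,
      W = (PnCoh.Finite.D (CohB1.polyGrading n R) (coord' n R j)).ι ''ᵁ ⊤ →
        Subsingleton Γ(DCoh.HD K p, W) := fun W hW => by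
    subst hW
    exact ⟨fun a b => (secEquiv _ _).symm.injective ((hs _).trans (hs _).symm)⟩
  exact @Subsingleton.elim _ (key _ (Scheme.Opens.ι_image_top _).symm) a b

end Groth.Agent.ProjTwists7

end
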