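import Groth.Agent.ProjTwists7.Twist
import Groth.Agent.KFlatLib.Scheme.TildeD
import Groth.Agent.KFlatLib.Scheme.RpushUnbounded
import Groth.Agent.S9826

/-!
# Maps out of twists and the cohomology of direct images of twists
-/

set_option autoImplicit false
set_option linter.style.haveILetI false
set_option backward.isDefEq.respectTransparency false
set_option backward.isDefEq.respectTransparency.types false
set_option maxHeartbeats 1000000

universe u

open CategoryTheory CategoryTheory.Limits AlgebraicGeometry Pretriangulated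

attribute [local instance] HasDerivedCategory.standard

noncomputable section

namespace Groth.Agent.ProjTwists7

open Groth.Agent.KFlatLib Groth.Agent.PerfGen7 Groth.Agent.ProjGen7

variable (n : ℕ) (A : Type u) [CommRing A]

/-- `O(j)` is invertible. -/
theorem inv (j : ℤ) : PicF.IsInvertible (Twist.twistProjSpace n A j) :=
  (PnCoh.Finite.invertible_package (coord' n A) (coord'_mem n A) (iSup_coord' n A)).1 j

/-- `O(i)⟦k⟧`. -/
abbrev gen (i k : ℤ) : DCoh.D (CohB1.ProjSpace n A) :=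
  (DCoh.inD (CohB1.ProjSpace n A) (Twist.twistProjSpace n A i))⟦k⟧

theorem isQCohD_gen (i k : ℤ) : DCoh.IsQCohD (gen n A i k) :=
  KFlatLib.isQCohD_shift (ShriekPn7.isQCohD_inD (PnCoh.isQCoh_twist_mvPolynomial (Fin (n + 1)) A _)) _

theorem locPC_gen (i k m : ℤ) : LocPC m (gen n A i k) :=
  ((((KFlatLib.isPerfect_iff _).1 (isPerfect_inD
    (H23.PullPush.isFinLocFree_of_isInvertible (inv n A i)))).locPC (m + k)).shift k).mono (by omega)

/-- Twisting a twist. -/
theorem nonempty_tw_gen (j i k : ℤ) :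
    Nonempty ((twD (inv n A j)).obj (gen n A i k) ≅ gen n A (i + j) k) := by
  obtain ⟨e⟩ := nonempty_twD_shift_inD (inv n A j) (Twist.twistProjSpace n A i) k
  obtain ⟨a⟩ := (PnCoh.Finite.invertible_package (coord' n A) (coord'_mem n A) (iSup_coord' n A)).2.1 i j
  exact ⟨e ≪≫ (shiftFunctor _ k).mapIso ((DerivedCategory.singleFunctor _ 0).mapIso a)⟩

/-- A twist becomes the structure sheaf. -/
theorem nonempty_tw_gen_zero (j k : ℤ) :
    Nonempty ((twD (inv n A j)).obj (gen n A (-j) k) ≅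
      (DCoh.inD (CohB1.ProjSpace n A) (Coh.structureModule (CohB1.ProjSpace n A)))⟦k⟧) := by
  obtain ⟨e⟩ := nonempty_tw_gen n A j (-j) k
  obtain ⟨i₀⟩ := ShriekPn7.nonempty_twist_zero_iso n A
  exact ⟨e ≪≫ eqToIso (by rw [neg_add_cancel]) ≪≫
    (shiftFunctor _ k).mapIso ((DerivedCategory.singleFunctor _ 0).mapIso i₀.symm)⟩

variable [DCoh.HasRpush (CohB1.ProjSpace.toSpec n A)]

local notation "π" => CohB1.ProjSpace.toSpec n A

/-- `Rπ_*(- (j))`. -/
abbrev phi (j : ℤ) (M : DCoh.D (CohB1.ProjSpace n A)) : DCoh.D (Spec (CommRingCat.of A)) :=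
  (DCoh.Rpush π).obj ((twD (inv n A j)).obj M)

/-- `O` on the base. -/
abbrev one : (Spec (CommRingCat.of A)).Modules :=
  (tilde.functor (CommRingCat.of A)).obj (ModuleCat.of A A)

theorem nonempty_rpush_unit (k c : ℤ) (h : k + c = 0) :
    Nonempty ((DCoh.Rpush π).obj ((DCoh.inD (CohB1.ProjSpace n A) (Coh.structureModule (CohB1.ProjSpace n A)))⟦k⟧) ≅
      (DerivedCategory.singleFunctor (Spec (CommRingCat.of A)).Modules c).obj (one A)) := by
  obtain ⟨e₀⟩ := ShriekPn7.nonempty_rpush_structure n A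
  exact ⟨((DCoh.Rpush π).commShiftIso k).app _ ≪≫ (shiftFunctor _ k).mapIso e₀ ≪≫
    ((DerivedCategory.singleFunctors (Spec (CommRingCat.of A)).Modules).shiftIso k c 0 (by omega)).app _ ≪≫
    (DerivedCategory.singleFunctor _ c).mapIso (tildeSelf (R := CommRingCat.of A)).symm⟩

theorem isQCohD_twD (j : ℤ) {M : DCoh.D (CohB1.ProjSpace n A)} (hM : DCoh.IsQCohD M) :
    DCoh.IsQCohD ((twD (inv n A j)).obj M) := fun i => by
  haveI := AmpleVan.isEquivalence_tw (inv n A j)
  exact (QCoh.isQCoh_iff_iso ((mapDCHomologyIso (AmpleVan.tw (Twist.twistProjSpace n A j)) i).app M)).2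
    (KFlatLib.isQCoh_tensor (hM i) (PnCoh.isQCoh_twist_mvPolynomial (Fin (n + 1)) A j))

theorem isQCohD_phi (j : ℤ) {M : DCoh.D (CohB1.ProjSpace n A)} (hM : DCoh.IsQCohD M) :
    DCoh.IsQCohD (phi n A j M) := by
  haveI : IsProper π := PnCoh.Chow.isProper_toSpec n A
  haveI : HasInjectiveResolutions (CohB1.ProjSpace n A).Modules := hasInjectiveResolutions_modules
  exact isQCohD_rpush π (isQCohD_twD n A j hM)

/-- Vanishing of `H^c(Rπ_* M(d))` kills the maps from `O(-d)[-c]`. -/
theorem eq_zero_of_isZero {M : DCoh.D (CohB1.ProjSpace n A)} (hM : DCoh.IsQCohD M) (d k c : ℤ) (h : k + c = 0)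
    (hz : IsZero (DCoh.HD (phi n A d M) c)) (φ : gen n A (-d) k ⟶ M) : φ = 0 := by
  haveI := isEquivalence_twD (inv n A d)
  obtain ⟨e⟩ := nonempty_tw_gen_zero n A d k
  obtain ⟨s⟩ := nonempty_rpush_unit n A k c h
  refine (twD (inv n A d)).map_injective ?_
  rw [← cancel_epi e.inv, Functor.map_zero, comp_zero]
  refine (ShriekPn7.bijective_rpush_map_shift n A k _).1 ?_
  show (DCoh.Rpush π).map (e.inv ≫ (twD (inv n A d)).map φ) = (DCoh.Rpush π).map 0
  rw [← cancel_epi s.inv]
  exact (bijective_psiC_tildeR (isQCohD_phi n A d hM) c).1 (hz.eq_of_tgt _ _)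

/-- A class in `H^c(Rπ_* M(d))` comes from a map out of `O(-d)[-c]`. -/
theorem exists_lift_class {M : DCoh.D (CohB1.ProjSpace n A)} (hM : DCoh.IsQCohD M) (d c : ℤ)
    (z : one A ⟶ DCoh.HD (phi n A d M) c) :
    ∃ (θ : gen n A (-d) (-c) ⟶ M) (w : one A ⟶ DCoh.HD (phi n A d (gen n A (-d) (-c))) c),
      w ≫ (DerivedCategory.homologyFunctor _ c).map ((DCoh.Rpush π).map ((twD (inv n A d)).map θ)) = z := by
  haveI := isEquivalence_twD (inv n A d)
  obtain ⟨e⟩ := nonempty_tw_gen_zero n A d (-c)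
  obtain ⟨s⟩ := nonempty_rpush_unit n A (-c) c (by omega)
  obtain ⟨φ, hφ⟩ := (bijective_psiC_tildeR (isQCohD_phi n A d hM) c).2 z
  obtain ⟨g, hg⟩ := (ShriekPn7.bijective_rpush_map_shift n A (-c) _).2 (s.hom ≫ φ)
  obtain ⟨θ, hθ⟩ := (twD (inv n A d)).map_surjective (e.hom ≫ g)
  refine ⟨θ, psiC c (one A) _ (s.inv ≫ (DCoh.Rpush π).map e.inv), ?_⟩
  rw [← psiC_comp, Category.assoc, hθ, ← (DCoh.Rpush π).map_comp, e.inv_hom_id_assoc]
  refine Eq.trans ?_ hφ
  refine congrArg (psiC c (one A) _) ?_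
  exact (congrArg (fun z => s.inv ≫ z) hg).trans (s.inv_hom_id_assoc φ)

/-- Cohomology of finite type is generated by finitely many global classes. -/
theorem exists_gens {H : (Spec (CommRingCat.of A)).Modules} (hq : Coh.IsQCoh H) (hft : CohB1.IsFT H) :
    ∃ (N : ℕ) (z : Fin N → (one A ⟶ H)), ∀ {Y : (Spec (CommRingCat.of A)).Modules} (q : H ⟶ Y),
      (∀ l, z l ≫ q = 0) → q = 0 := by
  obtain ⟨M, ⟨e⟩⟩ := QCoh.isQCoh_spec_iff.1 hq
  haveI : Module.Finite A M :=
    (Groth.Agent.S9826.result (CommRingCat.of A) M).1 (KFlatLib.isFT_of_iso' e.symm hft)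
  obtain ⟨N, p, hp⟩ := Module.Finite.exists_fin' A M
  let p' : ModuleCat.of A (Fin N → A) ⟶ M := ModuleCat.ofHom p
  haveI : Epi p' := (ModuleCat.epi_iff_surjective _).2 hp
  haveI : (tilde.functor (CommRingCat.of A)).IsLeftAdjoint := (tilde.adjunction (R := CommRingCat.of A)).isLeftAdjoint
  haveI : Epi ((tilde.functor (CommRingCat.of A)).map p') := inferInstance
  haveI : PreservesFiniteLimits (tilde.functor (CommRingCat.of A)) :=
    QCoh.tilde_preservesFiniteLimits (R := CommRingCat.of A)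
  haveI : (tilde.functor (CommRingCat.of A)).Additive := Functor.additive_of_preserves_binary_products _
  let ι : ∀ l : Fin N, ModuleCat.of A A ⟶ ModuleCat.of A (Fin N → A) := fun l =>
    ModuleCat.ofHom (LinearMap.single A (fun _ : Fin N => A) l)
  let pr : ∀ l : Fin N, ModuleCat.of A (Fin N → A) ⟶ ModuleCat.of A A := fun l =>
    ModuleCat.ofHom (LinearMap.proj l)
  refine ⟨N, fun l => (tilde.functor (CommRingCat.of A)).map (ι l ≫ p') ≫ e.hom, fun {Y} q hq' => ?_⟩
  rw [← cancel_epi e.hom, ← cancel_epi ((tilde.functor (CommRingCat.of A)).map p'), comp_zero, comp_zero]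
  have htot : 𝟙 (ModuleCat.of A (Fin N → A)) = ∑ l, pr l ≫ ι l := by
    refine ModuleCat.hom_ext (LinearMap.ext fun v => ?_)
    simp [ModuleCat.hom_sum, pr, ι, Finset.univ_sum_single]
  rw [← Category.id_comp p', htot, Preadditive.sum_comp, Functor.map_sum, Preadditive.sum_comp]
  refine Finset.sum_eq_zero fun l _ => ?_
  rw [Category.assoc, Functor.map_comp, Category.assoc]
  exact (congrArg _ ((Category.assoc _ _ _).symm.trans (hq' l))).trans comp_zero

end Groth.Agent.ProjTwists7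

end
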