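import Groth.Agent.ProjTwists7.Hom
import Groth.Agent.ProjTwists7.Below
import Groth.Agent.ProjGen7.RpushPerfect

/-!
# Pseudo-coherence on projective space is detected by the twists
-/

set_option autoImplicit false
set_option linter.style.haveILetI false
set_option backward.isDefEq.respectTransparency false
set_option backward.isDefEq.respectTransparency.types false
set_option maxHeartbeats 1000000

universe u

open CategoryTheory CategoryTheory.Limits AlgebraicGeometry Pretriangulated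

attribute [local instance] HasDerivedCategory.standard

noncomputable section

namespace Groth.Agent.ProjTwists7

open Groth.Agent.KFlatLib Groth.Agent.PerfGen7 Groth.Agent.ProjGen7

variable (n : ℕ) (A : Type u) [CommRing A] [DCoh.HasRpush (CohB1.ProjSpace.toSpec n A)]

local notation "π" => CohB1.ProjSpace.toSpec n A

/-- Twisted direct images of pseudo-coherent objects are pseudo-coherent. -/
theorem locPC_phi (j : ℤ) {M : DCoh.D (CohB1.ProjSpace n A)} (hM : ∀ m, LocPC m M) (m : ℤ) :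
    LocPC m (phi n A j M) := by
  haveI : IsProper π := PnCoh.Chow.isProper_toSpec n A
  haveI : CompactSpace (CohB1.ProjSpace n A) := QuasiCompact.compactSpace_of_compactSpace π
  haveI : QuasiSeparatedSpace (CohB1.ProjSpace n A) := quasiSeparatedSpace_of_quasiSeparated π
  exact locPC_rpush_of_perfect π (fun _ hE => isPerfect_rpush_Pn n A hE)
    (fun k => (isPseudoCoherentD_iff k _).2 (locPC_twD (inv n A j) hM k)) m

theorem isZero_hd_phi_gen (e d : ℕ) (hd : d ≤ n) (c i : ℤ) (hi : c < i) :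
    IsZero (DCoh.HD (phi n A (e : ℤ) (gen n A (-(d : ℤ)) (-c))) i) := by
  haveI : IsProper π := PnCoh.Chow.isProper_toSpec n A
  haveI : HasInjectiveResolutions (CohB1.ProjSpace n A).Modules := hasInjectiveResolutions_modules
  obtain ⟨t⟩ := nonempty_tw_gen n A (e : ℤ) (-(d : ℤ)) (-c)
  have hz := isZero_hd_rpush_single π
    (PnCoh.isQCoh_twist_mvPolynomial (Fin (n + 1)) A (-(d : ℤ) + (e : ℤ)))
    (fun q => Groth.Agent.S0844.result A n _ (q + 1) (fun h => Nat.succ_ne_zero q h.1) (fun h => by omega))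
    (i - c) (by omega)
  exact hz.of_iso ((DerivedCategory.homologyFunctor _ i).mapIso
      ((DCoh.Rpush π).mapIso t ≪≫ ((DCoh.Rpush π).commShiftIso (-c)).app _) ≪≫
    ((DerivedCategory.homologyFunctor _ 0).shiftIso (-c) i (i - c) (by omega)).app _)

/-- Quasi-coherent cohomology, pseudo-coherent twisted direct images without cohomology above `c`. -/
structure Hyp (c : ℤ) (K : DCoh.D (CohB1.ProjSpace n A)) : Prop where
  qc : DCoh.IsQCohD K
  pc : ∀ e : ℕ, e ≤ n → ∀ m, LocPC m (phi n A (e : ℤ) K)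
  zero : ∀ e : ℕ, e ≤ n → ∀ i, c < i → IsZero (DCoh.HD (phi n A (e : ℤ) K) i)

variable {n A}

omit [DCoh.HasRpush (CohB1.ProjSpace.toSpec n A)] in
theorem epi_homology {Z : Scheme.{u}} {T : Triangle (DCoh.D Z)} (hT : T ∈ distTriang _) (i j : ℤ) (h : 1 + i = j)
    (hz : IsZero (DCoh.HD T.obj₁ j)) :
    Epi ((DerivedCategory.homologyFunctor Z.Modules i).map T.mor₂) :=
  ((DerivedCategory.homologyFunctor Z.Modules i).map_distinguished_exact T.rotate
    (rot_of_distTriang _ hT)).epi_f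
    ((hz.of_iso (((DerivedCategory.homologyFunctor Z.Modules 0).shiftIso 1 i j h).app _)).eq_of_tgt _ _)

theorem twisted_triangle (e : ℕ) {T : Triangle (DCoh.D (CohB1.ProjSpace n A))} (hT : T ∈ distTriang _) :
    ((twD (inv n A (e : ℤ)) ⋙ DCoh.Rpush π).mapTriangle.obj T) ∈ distTriang _ :=
  (twD (inv n A (e : ℤ)) ⋙ DCoh.Rpush π).map_distinguished T hT

/-- Killing finitely many classes in the top degree. -/
theorem exists_kill (c : ℤ) (d : ℕ) (hd : d ≤ n) : ∀ (N : ℕ) (K : DCoh.D (CohB1.ProjSpace n A)), Hyp n A c K →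
    ∀ z : Fin N → (one A ⟶ DCoh.HD (phi n A (d : ℤ) K) c),
    (∀ {Y : (Spec (CommRingCat.of A)).Modules} (q : DCoh.HD (phi n A (d : ℤ) K) c ⟶ Y),
      (∀ l, z l ≫ q = 0) → q = 0) →
    ∃ C, Hyp n A c C ∧ IsZero (DCoh.HD (phi n A (d : ℤ) C) c) ∧
      (∀ e : ℕ, e ≤ n → IsZero (DCoh.HD (phi n A (e : ℤ) K) c) → IsZero (DCoh.HD (phi n A (e : ℤ) C) c)) ∧
      ∀ m, LocPC m C → LocPC m K
  | 0, K, hK, z, hz => ⟨K, hK, (IsZero.iff_id_eq_zero _).2 (hz _ fun l => l.elim0), fun _ _ h => h, fun _ h => h⟩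
  | N + 1, K, hK, z, hz => by
    obtain ⟨θ, w, hw⟩ := exists_lift_class n A hK.qc (d : ℤ) c (z 0)
    obtain ⟨C, u, v, hT⟩ := Pretriangulated.distinguished_cocone_triangle θ
    let T := Triangle.mk θ u v
    have hT' : ∀ e : ℕ, _ := fun e => twisted_triangle (n := n) (A := A) e hT
    have hg : ∀ e : ℕ, ∀ k, LocPC k (phi n A (e : ℤ) (gen n A (-(d : ℤ)) (-c))) :=
      fun e k => locPC_phi n A _ (locPC_gen n A _ _) k
    have hC : Hyp n A c C := by
      refine ⟨isQCohD_obj₃ hT (isQCohD_gen n A _ _) hK.qc, fun e he m => ?_, fun e he i hi => ?_⟩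
      · exact (locPC_two_of_three m _ (hT' e)).1 (hg e (m + 1)) (hK.pc e he m)
      · haveI : Epi ((DerivedCategory.homologyFunctor _ i).map
            ((DCoh.Rpush π).map ((twD (inv n A (e : ℤ))).map u))) :=
          epi_homology (hT' e) i (1 + i) rfl (isZero_hd_phi_gen n A e d hd c _ (by omega))
        exact IsZero.of_epi ((DerivedCategory.homologyFunctor _ i).map
          ((DCoh.Rpush π).map ((twD (inv n A (e : ℤ))).map u))) (hK.zero e he i hi)
    have hepi : ∀ e : ℕ, Epi ((DerivedCategory.homologyFunctor _ c).map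
        ((DCoh.Rpush π).map ((twD (inv n A (e : ℤ))).map u))) := fun e =>
      epi_homology (hT' e) c (1 + c) rfl (isZero_hd_phi_gen n A e d hd c _ (by omega))
    let hu := (DerivedCategory.homologyFunctor _ c).map ((DCoh.Rpush π).map ((twD (inv n A (d : ℤ))).map u))
    have h0 : z 0 ≫ hu = 0 := by
      have hcomp : θ ≫ u = 0 := comp_distTriang_mor_zero₁₂ T hT
      show z 0 ≫ (DerivedCategory.homologyFunctor _ c).map _ = 0
      rw [← hw, Category.assoc, ← Functor.map_comp, ← Functor.map_comp, ← Functor.map_comp, hcomp,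
        Functor.map_zero, Functor.map_zero, Functor.map_zero, comp_zero]
    obtain ⟨C', h₁, h₂, h₃, h₄⟩ := exists_kill c d hd N C hC (fun l => z l.succ ≫ hu) fun {Y} q hq => by
      haveI := hepi d
      rw [← cancel_epi hu, comp_zero]
      refine hz _ fun l => ?_
      refine Fin.cases ?_ (fun l => (Category.assoc _ _ _).symm.trans (hq l)) l
      rw [← Category.assoc, h0, zero_comp]
    refine ⟨C', h₁, h₂, fun e he h => h₃ e he ?_, fun m hm => ?_⟩
    · haveI := hepi e
      exact IsZero.of_epi ((DerivedCategory.homologyFunctor _ c).map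
        ((DCoh.Rpush π).map ((twD (inv n A (e : ℤ))).map u))) h
    · exact (locPC_two_of_three m T hT).2.1 (locPC_gen n A _ _ m) (h₄ m hm)

/-- Lowering the bound by one. -/
theorem exists_lower {c : ℤ} {K : DCoh.D (CohB1.ProjSpace n A)} (hK : Hyp n A c K) :
    ∀ j : ℕ, ∃ C, Hyp n A c C ∧ (∀ e : ℕ, e < j → e ≤ n → IsZero (DCoh.HD (phi n A (e : ℤ) C) c)) ∧
      ∀ m, LocPC m C → LocPC m K
  | 0 => ⟨K, hK, fun e he => absurd he (Nat.not_lt_zero e), fun _ h => h⟩
  | j + 1 => by
    obtain ⟨C, hC, hz, hm⟩ := exists_lower hK j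
    by_cases hj : j ≤ n
    · obtain ⟨N, z, hgen⟩ := exists_gens A (isQCohD_phi n A (j : ℤ) hC.qc c)
        (KFlatLib.isFT_top (hC.pc j hj c) (hC.zero j hj))
      obtain ⟨C', h₁, h₂, h₃, h₄⟩ := exists_kill c j hj N C hC z (fun q h => hgen q h)
      refine ⟨C', h₁, fun e he he' => ?_, fun m h => hm m (h₄ m h)⟩
      rcases Nat.lt_succ_iff_lt_or_eq.1 he with h | rfl
      · exact h₃ e he' (hz e h he')
      · exact h₂
    · exact ⟨C, hC, fun e he he' => hz e (by omega) he', hm⟩

theorem locPC_of_hyp (m : ℤ) : ∀ (k : ℕ) (c : ℤ) (K : DCoh.D (CohB1.ProjSpace n A)),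
    c < m + k → Hyp n A c K → LocPC m K
  | 0, c, K, hc, hK => by
    refine locPC_of_isZero m K fun p hp => isZero_hd_of_window n A hK.qc (-c) (fun d hd k hk φ => ?_) p
      (by simp at hc; omega)
    exact eq_zero_of_isZero n A hK.qc (d : ℤ) k (-k) (by omega) (hK.zero d hd _ (by omega)) φ
  | k + 1, c, K, hc, hK => by
    obtain ⟨C, hC, hz, hm⟩ := exists_lower hK (n + 1)
    refine hm m (locPC_of_hyp m k (c - 1) C (by simp at hc; omega) ⟨hC.qc, hC.pc, fun e he i hi => ?_⟩)
    rcases (show i = c ∨ c < i by omega) with rfl | h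
    · exact hz e (by omega) he
    · exact hC.zero e he i h

/-- The twists `0, …, n` detect pseudo-coherence. -/
theorem locPC_iff {K : DCoh.D (CohB1.ProjSpace n A)} (hK : DCoh.IsQCohD K) :
    (∀ m, LocPC m K) ↔ ∀ d : ℕ, d ≤ n → ∀ m, LocPC m (phi n A (d : ℤ) K) := by
  refine ⟨fun h d _ m => locPC_phi n A _ h m, fun h m => ?_⟩
  choose b hb using fun d : Fin (n + 1) =>
    exists_bound_of_locPC (h d.1 (Nat.lt_succ_iff.1 d.2) 0)
  let c : ℤ := ((∑ d, (b d).natAbs : ℕ) : ℤ)
  refine locPC_of_hyp m (c - m + 1).toNat c K (by omega) ⟨hK, h, fun e he i hi => ?_⟩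
  have h' : (b ⟨e, by omega⟩).natAbs ≤ ∑ d, (b d).natAbs :=
    Finset.single_le_sum (f := fun d => (b d).natAbs) (fun _ _ => Nat.zero_le _) (Finset.mem_univ _)
  exact hb ⟨e, by omega⟩ i (by omega)

end Groth.Agent.ProjTwists7

end
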